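import Cfsg.Agent.Compute.M24Base
import Cfsg.Agent.Compute.Config
import Cfsg.Agent.J4M24.Data

/-!
# The images of x and y generate the group of the length-24 code
-/

set_option autoImplicit false
set_option maxRecDepth 100000

namespace Cfsg.Agent.J4M24

open Cfsg Cfsg.Agent.Compute

theorem gen_check : rep24.genB m24aChain xyCodes slp = true := by decide +kernel

theorem span_xy : rep24.span xyCodes = M24 := by
  rw [rep24.span_of_genB m24a_check gen_check, ← m24_eq]

end Cfsg.Agent.J4M24
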