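import Cfsg.Agent.J4M24.Upper
import Cfsg.Agent.J4M24.Image
import Cfsg.Agent.J4Rep.Main
import Cfsg.Agent.Compute.Mathieu

/-!
# In the presented J4 the subgroup on x and y is the group of the length-24 code

The seven relators on `x` and `y` hold in the group of the code, which they generate, and present
a group of no larger order; so they present it.  Its image in J4 is not trivial, so it is faithful.
-/

set_option autoImplicit false
set_option maxRecDepth 100000

namespace Cfsg.Agent.J4M24

open Cfsg Cfsg.Agent.Compute Cfsg.Agent.CosetCert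

/-- The codes of the signed letters. -/
def xyCode : Fin 2 × Bool → ℕ
  | (0, _) => 0x94e0ab5c75494c1151e0235c78ad88
  | (1, true) => 0x15ea384a2c015536ad28a3c8e3d826
  | (1, false) => 0xb0aa764a333117053528181c5a5c2f

theorem xyCode_ok : ∀ a, rep24.okb (xyCode a) = true := by decide +kernel

theorem xyCode_inv : ∀ b : Fin 2,
    Nat.beq (rep24.mul (xyCode (b, false)) (xyCode (b, true))) rep24.one = true := by decide +kernel

theorem xyCodes_eq : xyCodes = [xyCode (0, true), xyCode (1, true)] := by decide +kernel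

/-- The code of a word. -/
noncomputable def evalCode (w : List (Fin 2 × Bool)) : ℕ :=
  List.rec (motive := fun _ => ℕ) rep24.one (fun a _ ih => rep24.mul (xyCode a) ih) w

theorem rels_code :
    J4M24Q.relWords.all (fun l => Nat.beq (evalCode l) rep24.one) = true := by decide +kernel

/-- The images of the two generators. -/
noncomputable def xyPerm (b : Fin 2) : Equiv.Perm GolayPt := rep24.den (xyCode (b, true))

theorem letter_den (a : Fin 2 × Bool) :
    (bif a.2 then xyPerm a.1 else (xyPerm a.1)⁻¹) = rep24.den (xyCode a) := by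
  obtain ⟨b, _ | _⟩ := a
  · show (xyPerm b)⁻¹ = _
    refine inv_eq_of_mul_eq_one_left ?_
    have h := xyCode_inv b
    rw [Nat.beq_eq] at h
    rw [xyPerm, ← rep24.den_mul _ _ (rep24.okb_sound _ (xyCode_ok _))
      (rep24.okb_sound _ (xyCode_ok _)), h, rep24.den_one]
  · rfl

theorem evalCode_spec (w : List (Fin 2 × Bool)) :
    rep24.Ok (evalCode w) ∧
      rep24.den (evalCode w) = (w.map fun a => bif a.2 then xyPerm a.1 else (xyPerm a.1)⁻¹).prod := by
  induction w with
  | nil => exact ⟨rep24.ok_one, rep24.den_one⟩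
  | cons a w ih =>
    refine ⟨rep24.ok_mul _ _ (rep24.okb_sound _ (xyCode_ok a)) ih.1, ?_⟩
    show rep24.den (rep24.mul (xyCode a) (evalCode w)) = _
    rw [rep24.den_mul _ _ (rep24.okb_sound _ (xyCode_ok a)) ih.1, ih.2, List.map_cons,
      List.prod_cons, letter_den]

theorem perm_relators : ∀ r ∈ wordRels J4M24Q.relWords, FreeGroup.lift xyPerm r = 1 := by
  intro r hr
  obtain ⟨l, hl, rfl⟩ := List.mem_map.1 hr
  have h := List.all_eq_true.1 rels_code l hl
  rw [Nat.beq_eq] at h
  rw [FreeGroup.lift_mk]
  refine Eq.trans ?_ ((evalCode_spec l).2.symm.trans (h ▸ rep24.den_one))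
  rfl

/-- The map to permutations. -/
noncomputable def toPerms : Q →* Equiv.Perm GolayPt := PresentedGroup.toGroup perm_relators

theorem range_toPerms : toPerms.range = M24 := by
  rw [← span_xy, MonoidHom.range_eq_map, ← PresentedGroup.closure_range_of, MonoidHom.map_closure,
    Rep.span]
  apply congrArg Subgroup.closure
  ext g
  constructor
  · rintro ⟨_, ⟨b, rfl⟩, rfl⟩
    refine ⟨xyCode (b, true), ?_, (PresentedGroup.toGroup.of perm_relators).symm⟩
    show xyCode (b, true) ∈ xyCodes
    rw [xyCodes_eq]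
    fin_cases b <;> simp
  · rintro ⟨c, hc, rfl⟩
    have hc' : c ∈ xyCodes := hc
    rw [xyCodes_eq] at hc'
    simp only [List.mem_cons, List.not_mem_nil, or_false] at hc'
    rcases hc' with rfl | rfl
    · exact ⟨_, ⟨0, rfl⟩, PresentedGroup.toGroup.of perm_relators⟩
    · exact ⟨_, ⟨1, rfl⟩, PresentedGroup.toGroup.of perm_relators⟩

/-- The seven relators present the group of the code. -/
theorem q_equiv_m24 : Nonempty (Q ≃* M24) := by
  obtain ⟨hfin, hle⟩ := card_Q
  have : Finite Q := hfin
  let f : Q →* M24 := toPerms.codRestrict M24 fun q => range_toPerms ▸ ⟨q, rfl⟩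
  have hf : Function.Surjective f := by
    rintro ⟨g, hg⟩
    have hg' : g ∈ toPerms.range := range_toPerms.symm ▸ hg
    obtain ⟨q, rfl⟩ := hg'
    exact ⟨q, rfl⟩
  have hb : Function.Bijective f :=
    (Nat.bijective_iff_surjective_and_card f).2
      ⟨hf, le_antisymm (hle.trans card_m24.ge) (Nat.card_le_card_of_surjective f hf)⟩
  exact ⟨MulEquiv.ofBijective f hb⟩

/-- The names of the generators in the presented J4. -/
def jGen : Fin 2 → Spor.J4.Gen
  | 0 => .x
  | 1 => .y

theorem rels_in_extra : J4M24Q.relWords.all (fun l =>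
    decide (FreeGroup.reduce (l.map fun a => (jGen a.1, a.2)) ∈ J4Rep.relLists)) = true := by
  decide +kernel

theorem rels_j4 : ∀ l ∈ J4M24Q.relWords,
    PresentedGroup.mk (Spor.coxRelators Spor.J4.edges ∪ {r | r ∈ Spor.J4.extra})
      (FreeGroup.mk (l.map fun a => (jGen a.1, a.2))) = 1 := by
  intro l hl
  have h := of_decide_eq_true (List.all_eq_true.1 rels_in_extra l hl)
  rw [← J4Rep.relLists_eq, List.mem_map] at h
  obtain ⟨r, hr, hre⟩ := h
  have : FreeGroup.mk (l.map fun a => (jGen a.1, a.2)) = r := by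
    rw [← FreeGroup.mk_toWord (x := r), hre, FreeGroup.reduce.self]
  rw [this]
  exact PresentedGroup.one_of_mem (Or.inr hr)

/-- The subgroup on `x` and `y` in the presented J4 is the group of the code. -/
theorem xy_iso_m24 : Nonempty
    (((Subgroup.closure ({Spor.J4.x, Spor.J4.y} : Set (FreeGroup Spor.J4.Gen))).map
      (PresentedGroup.mk (Spor.coxRelators Spor.J4.edges ∪ {r | r ∈ Spor.J4.extra}))) ≃* M24) := by
  obtain ⟨e⟩ := q_equiv_m24
  obtain ⟨ι, hι⟩ := exists_rename J4M24Q.relWords jGen rels_j4
  have hι' : ∀ b, ι (PresentedGroup.of b) =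
      PresentedGroup.mk _ (FreeGroup.of (jGen b)) := fun b => by
    rw [show (PresentedGroup.of b : Q) = PresentedGroup.mk _ (FreeGroup.of b) from rfl, hι,
      FreeGroup.map.of]
  have hr : ι.range = (Subgroup.closure ({Spor.J4.x, Spor.J4.y} : Set (FreeGroup Spor.J4.Gen))).map
      (PresentedGroup.mk _) := by
    rw [MonoidHom.range_eq_map, ← PresentedGroup.closure_range_of, MonoidHom.map_closure,
      MonoidHom.map_closure]
    apply congrArg Subgroup.closure
    ext g
    constructor
    · rintro ⟨_, ⟨b, rfl⟩, rfl⟩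
      refine ⟨FreeGroup.of (jGen b), ?_, (hι' b).symm⟩
      fin_cases b
      · exact Or.inl rfl
      · exact Or.inr rfl
    · rintro ⟨w, rfl | hw, rfl⟩
      · exact ⟨_, ⟨0, rfl⟩, hι' 0⟩
      · rw [Set.mem_singleton_iff] at hw
        subst hw
        exact ⟨_, ⟨1, rfl⟩, hι' 1⟩
  have : IsSimpleGroup M24 := isSimpleGroup_m24
  have hsimple : IsSimpleGroup Q := e.isSimpleGroup
  have hker : ι.ker = ⊥ := by
    rcases ι.normal_ker.eq_bot_or_eq_top with h | h
    · exact h
    · exfalso
      refine J4Rep.of_x_ne_one ?_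
      have h0 : PresentedGroup.of (0 : Fin 2) ∈ ι.ker := h ▸ Subgroup.mem_top _
      rw [MonoidHom.mem_ker, hι'] at h0
      exact h0
  have hinj : Function.Injective ι := (MonoidHom.ker_eq_bot_iff ι).1 hker
  exact ⟨(MulEquiv.subgroupCongr hr.symm).trans ((MonoidHom.ofInjective hinj).symm.trans e)⟩

end Cfsg.Agent.J4M24
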