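import Cfsg.Agent.CosetCert.J4M24Q.Main
import Cfsg.Agent.CosetCert.J4M24QMem.Main
import Cfsg.Agent.CosetCert.J4M24K.Main
import Cfsg.Agent.CosetCert.J4M24KMem.Main
import Cfsg.Agent.CosetCert.J4M24S.Main

/-!
# An upper bound for the group given by the seven relators on `x` and `y` of the presented J4

The group has a subgroup of index at most 276 that is an image of a presented group on three
generators, which has a subgroup of index at most 154 that is an image of a presented group of
order at most 5760.
-/

set_option autoImplicit false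
set_option maxRecDepth 100000

namespace Cfsg.Agent.J4M24

open Cfsg.Agent.CosetCert

section Subst

variable {β γ : Type*}

/-- Replace letters by words. -/
def subst (f : β → List (γ × Bool)) (l : List (β × Bool)) : List (γ × Bool) :=
  l.flatMap fun a => bif a.2 then f a.1 else FreeGroup.invRev (f a.1)

theorem lift_mk_words (f : β → List (γ × Bool)) (l : List (β × Bool)) :
    FreeGroup.lift (fun b => FreeGroup.mk (f b)) (FreeGroup.mk l) = FreeGroup.mk (subst f l) := by
  induction l with
  | nil =>
    rw [← FreeGroup.one_eq_mk, map_one]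
    rfl
  | cons a t ih =>
    have hs : FreeGroup.mk (a :: t) = FreeGroup.mk [a] * FreeGroup.mk t := by
      rw [FreeGroup.mul_mk]; rfl
    have hr : FreeGroup.mk (subst f (a :: t)) =
        FreeGroup.mk (bif a.2 then f a.1 else FreeGroup.invRev (f a.1)) * FreeGroup.mk (subst f t) := by
      rw [FreeGroup.mul_mk]; rfl
    rw [hs, map_mul, ih, hr]
    congr 1
    obtain ⟨b, _ | _⟩ := a
    · simp only [cond_false]
      rw [← FreeGroup.inv_mk, FreeGroup.lift_mk]
      simp
    · simp only [cond_true]
      rw [FreeGroup.lift_mk]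
      simp

/-- Substituting words that satisfy the relators gives a homomorphism. -/
theorem exists_subst {rels : Set (FreeGroup γ)} (RL : List (List (β × Bool)))
    (f : β → List (γ × Bool))
    (h : ∀ l ∈ RL, PresentedGroup.mk rels (FreeGroup.mk (subst f l)) = 1) :
    ∃ ψ : PresentedGroup (wordRels RL) →* PresentedGroup rels,
      ∀ b, PresentedGroup.mk rels (FreeGroup.mk (f b)) = ψ (PresentedGroup.of b) := by
  have hl : (FreeGroup.lift fun b => PresentedGroup.mk rels (FreeGroup.mk (f b))) =
      (PresentedGroup.mk rels).comp (FreeGroup.lift fun b => FreeGroup.mk (f b)) :=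
    FreeGroup.ext_hom _ _ fun b => by simp
  have hr : ∀ r ∈ wordRels RL,
      FreeGroup.lift (fun b => PresentedGroup.mk rels (FreeGroup.mk (f b))) r = 1 := by
    intro r hr
    obtain ⟨l, hl', rfl⟩ := List.mem_map.1 hr
    rw [hl, MonoidHom.comp_apply, lift_mk_words]
    exact h l hl'
  exact ⟨PresentedGroup.toGroup hr, fun b => (PresentedGroup.toGroup.of hr).symm⟩

/-- A group with a subgroup of index at most `n` inside the image of a group of order at most `m`. -/
theorem card_le_step {rels : Set (FreeGroup γ)} {Sg : List (FreeGroup γ)} {n m : Nat}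
    (hn : (Data.sub rels Sg).index ≠ 0 ∧ (Data.sub rels Sg).index ≤ n) {P : Type*} [Group P]
    (ψ : P →* PresentedGroup rels) (hP : Finite P ∧ Nat.card P ≤ m)
    (hSg : ∀ w ∈ Sg, PresentedGroup.mk rels w ∈ ψ.range) :
    Finite (PresentedGroup rels) ∧ Nat.card (PresentedGroup rels) ≤ n * m := by
  have : Finite P := hP.1
  have hT : Finite ψ.range ∧ Nat.card ψ.range ≤ m :=
    ⟨Finite.of_surjective _ ψ.rangeRestrict_surjective,
      (Nat.card_le_card_of_surjective _ ψ.rangeRestrict_surjective).trans hP.2⟩
  have hH : (Data.sub rels Sg).map (MonoidHom.id (PresentedGroup rels)) ≤ ψ.range := by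
    rw [Subgroup.map_id, Data.sub, MonoidHom.map_closure, Subgroup.closure_le]
    rintro _ ⟨w, hw, rfl⟩
    exact hSg w hw
  obtain ⟨hfin, hle⟩ := card_range_le (MonoidHom.id (PresentedGroup rels)) _ hn hT hH
  have hr : (MonoidHom.id (PresentedGroup rels)).range = ⊤ :=
    MonoidHom.range_eq_top.2 fun g => ⟨g, rfl⟩
  rw [hr] at hfin hle
  exact ⟨Finite.of_equiv _ Subgroup.topEquiv.toEquiv,
    by rwa [Nat.card_congr Subgroup.topEquiv.toEquiv] at hle⟩

end Subst

/-- The group on `x` and `y` given by the seven relators. -/
abbrev Q : Type := PresentedGroup (wordRels J4M24Q.relWords)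

/-- The middle group. -/
abbrev K : Type := PresentedGroup (wordRels J4M24K.relWords)

/-- The bottom group. -/
abbrev S : Type := PresentedGroup (wordRels J4M24S.relWords)

theorem card_S : Finite S ∧ Nat.card S ≤ 5760 := by
  have h : Data.sub (wordRels J4M24S.relWords) (J4M24S.subWords.map FreeGroup.mk) = ⊥ := by
    simp [Data.sub, J4M24S.subWords]
  have hi := J4M24S.index_bound
  rw [h, Subgroup.index_bot] at hi
  exact ⟨(Nat.card_ne_zero.1 hi.1).2, hi.2⟩

/-- The images in `K` of the generators of `S`. -/
def stepS (b : Fin 2) : List (Fin 3 × Bool) := [(⟨b.val, by omega⟩, true)]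

/-- The images in `Q` of the generators of `K`. -/
def stepK (b : Fin 3) : List (Fin 2 × Bool) :=
  J4M24Q.subWords.getD b.val []

theorem stepS_targets :
    J4M24S.relWords.map (fun l => FreeGroup.reduce (subst stepS l)) = J4M24KMem.targets := by
  decide +kernel

theorem kMem_rels : J4M24KMem.relWords = J4M24K.relWords := by decide +kernel

theorem stepK_targets :
    J4M24K.relWords.map (fun l => FreeGroup.reduce (subst stepK l)) = J4M24QMem.targets := by
  decide +kernel

theorem qMem_rels : J4M24QMem.relWords = J4M24Q.relWords := by decide +kernel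

theorem stepS_sub : J4M24K.subWords = [stepS 0, stepS 1] := by decide +kernel

theorem stepK_sub : J4M24Q.subWords = [stepK 0, stepK 1, stepK 2] := by decide +kernel

theorem card_K : Finite K ∧ Nat.card K ≤ 154 * 5760 := by
  obtain ⟨ψ, hψ⟩ := exists_subst (rels := wordRels J4M24K.relWords) J4M24S.relWords stepS (by
    intro l hl
    have hm : FreeGroup.reduce (subst stepS l) ∈ J4M24KMem.targets :=
      stepS_targets ▸ List.mem_map_of_mem hl
    have h := J4M24KMem.target_one _ hm
    rw [kMem_rels, FreeGroup.reduce.self] at h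
    exact h)
  refine card_le_step J4M24K.index_bound ψ card_S fun w hw => ?_
  rw [stepS_sub] at hw
  simp only [List.map_cons, List.map_nil, List.mem_cons, List.not_mem_nil, or_false] at hw
  rcases hw with rfl | rfl <;> exact ⟨_, (hψ _).symm⟩

theorem card_Q : Finite Q ∧ Nat.card Q ≤ 244823040 := by
  obtain ⟨ψ, hψ⟩ := exists_subst (rels := wordRels J4M24Q.relWords) J4M24K.relWords stepK (by
    intro l hl
    have hm : FreeGroup.reduce (subst stepK l) ∈ J4M24QMem.targets :=
      stepK_targets ▸ List.mem_map_of_mem hl
    have h := J4M24QMem.target_one _ hm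
    rw [qMem_rels, FreeGroup.reduce.self] at h
    exact h)
  show Finite Q ∧ Nat.card Q ≤ 276 * (154 * 5760)
  refine card_le_step J4M24Q.index_bound ψ card_K fun w hw => ?_
  rw [stepK_sub] at hw
  simp only [List.map_cons, List.map_nil, List.mem_cons, List.not_mem_nil, or_false] at hw
  rcases hw with rfl | rfl | rfl <;> exact ⟨_, (hψ _).symm⟩

end Cfsg.Agent.J4M24
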